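import Groth.Agent.CIX45.Reg
import Groth.Agent.ZetaLib.ProjPoints

/-!
# Regular sequences of forms on the standard charts
-/

set_option autoImplicit false
set_option backward.isDefEq.respectTransparency false
set_option backward.isDefEq.respectTransparency.types false

universe u

open MvPolynomial HomogeneousLocalization

noncomputable section

namespace Groth.Agent.CIX45

open Groth.Agent

variable {k : Type u} [Field k] {n r : ℕ} (i : Fin (n + 1))

local notation "S" => MvPolynomial (Fin (n + 1)) k
local notation "δ" => ZetaLib.dehom n k i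

theorem eq_zero_of_dehom_eq_zero {m : ℕ} {x : S} (hx : x.IsHomogeneous m) (h : δ x = 0) : x = 0 := by
  have h1 := ZetaLib.val_dehom_mul n k i hx
  rw [h, HomogeneousLocalization.val_zero, zero_mul] at h1
  refine IsLocalization.injective (M := Submonoid.powers (X i : S)) (Localization (Submonoid.powers (X i : S))) ?_ (h1.symm.trans (map_zero _).symm)
  exact powers_le_nonZeroDivisors_of_noZeroDivisors (X_ne_zero i)

theorem dehom_X_self : δ (X i) = 1 := by
  refine HomogeneousLocalization.val_injective _ ?_
  have hu : IsUnit (algebraMap S (Localization (Submonoid.powers (X i : S))) (X i) ^ 1) :=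
    (IsLocalization.map_units _ (⟨X i, 1, pow_one _⟩ : Submonoid.powers (X i : S))).pow 1
  refine hu.mul_left_injective ?_
  show _ * _ = _ * _
  rw [ZetaLib.val_dehom_mul n k i (isHomogeneous_X k i), HomogeneousLocalization.val_one, one_mul, pow_one]

/-- Every element of the chart is the dehomogenisation of a form. -/
theorem exists_form_dehom (z : Away (CohB1.polyGrading n k) (X i : S)) :
    ∃ (m : ℕ) (x : S), x.IsHomogeneous m ∧ δ x = z := by
  obtain ⟨m, x, hx, rfl⟩ := Away.mk_surjective (CohB1.polyGrading n k) (isHomogeneous_X k i) z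
  refine ⟨m, x, by simpa using hx, HomogeneousLocalization.val_injective _ ?_⟩
  have hu : IsUnit (algebraMap S (Localization (Submonoid.powers (X i : S))) (X i) ^ m) :=
    (IsLocalization.map_units _ (⟨X i, 1, pow_one _⟩ : Submonoid.powers (X i : S))).pow m
  refine hu.mul_left_injective ?_
  show _ * _ = _ * _
  rw [ZetaLib.val_dehom_mul n k i (by simpa using hx), Away.val_mk,
    ← map_pow, ← Localization.mk_one_eq_algebraMap, ← Localization.mk_one_eq_algebraMap,
    Localization.mk_mul, Localization.mk_eq_mk_iff, Localization.r_iff_exists]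
  exact ⟨1, by simp [mul_comm]⟩

/-- On a standard chart the last equation of a complete intersection is regular modulo the others. -/
theorem dehom_mem_of_mul_mem {a : Fin (r + 1) → ℕ} (ha : ∀ j, 1 ≤ a j) (G : ∀ j, LefPen.Form n k (a j))
    (hr : r ≤ n) (h : DimLE G) (z : Away (CohB1.polyGrading n k) (X i : S))
    (hz : z * δ (G (Fin.last r)).1 ∈ Ideal.span (Set.range fun j : Fin r => δ (G j.castSucc).1)) :
    z ∈ Ideal.span (Set.range fun j : Fin r => δ (G j.castSucc).1) := by
  obtain ⟨c, hc⟩ := Ideal.mem_span_range_iff_exists_fun.1 hz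
  choose m C hC hCc using fun j => exists_form_dehom i (c j)
  obtain ⟨m₀, A, hA, rfl⟩ := exists_form_dehom i z
  let D : ℕ := m₀ + a (Fin.last r) + ∑ j : Fin r, (m j + a j.castSucc)
  have hD : ∀ j : Fin r, m j + a j.castSucc ≤ D := fun j =>
    (Finset.single_le_sum (f := fun j : Fin r => m j + a j.castSucc) (fun _ _ => Nat.zero_le _)
      (Finset.mem_univ j)).trans (Nat.le_add_left _ _)
  let e : ℕ := D - (m₀ + a (Fin.last r))
  let T : S := ∑ j : Fin r, X i ^ (D - (m j + a j.castSucc)) * C j * (G j.castSucc).1
  have hT : T.IsHomogeneous D := IsHomogeneous.sum _ _ _ fun j _ => by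
    have h' := (((isHomogeneous_X k i).pow (D - (m j + a j.castSucc))).mul (hC j)).mul (G j.castSucc).2
    rwa [one_mul, add_assoc, Nat.sub_add_cancel (hD j)] at h'
  have hL : (X i ^ e * A * (G (Fin.last r)).1).IsHomogeneous D := by
    have h' := (((isHomogeneous_X k i).pow e).mul hA).mul (G (Fin.last r)).2
    rwa [one_mul, add_assoc, Nat.sub_add_cancel (Nat.le_add_right _ _)] at h'
  have h0 : δ (X i ^ e * A * (G (Fin.last r)).1 - T) = 0 := by
    simp only [T, map_sub, map_sum, map_mul, map_pow, dehom_X_self, one_pow, one_mul, hCc]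
    rw [hc, sub_self]
  have hmem : X i ^ e * A ∈ pI (fun j : Fin r => G j.castSucc) := by
    refine mem_of_mul_mem ha G hr h _ ?_
    rw [sub_eq_zero.1 (eq_zero_of_dehom_eq_zero i (hL.sub hT) h0)]
    exact Ideal.sum_mem _ fun j _ => Ideal.mul_mem_left _ _ (Ideal.subset_span ⟨j, rfl⟩)
  have h1 := Ideal.mem_map_of_mem δ hmem
  rw [map_mul, map_pow, dehom_X_self, one_pow, one_mul, pI, Ideal.map_span, ← Set.range_comp] at h1
  exact h1

end Groth.Agent.CIX45
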