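import Groth.Agent.SerreVan45.ProjAffine
import Groth.Agent.SurfInt.Ideal
import Groth.Agent.SurfInt.FrameIso
import Groth.Agent.KFlatLib.Scheme.PullTensorCx
import Groth.Agent.AmpleVan.Tw
import Groth.Agent.HodgeLef45.Lef
import Groth.Agent.QCoh.HHExact
import Groth.Agent.QCoh.AffineCohom
import Groth.Agent.PnCoh.Finite.SerreVanishing
import Groth.Prelude.Def_KoszTw

/-!
# Restriction of invertible modules to a closed subscheme, and composition of restrictions
-/

set_option autoImplicit false
set_option linter.style.haveILetI false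
set_option linter.unusedVariables false
set_option backward.isDefEq.respectTransparency false
set_option backward.isDefEq.respectTransparency.types false
set_option maxHeartbeats 1000000

universe u

open CategoryTheory CategoryTheory.Limits AlgebraicGeometry TopologicalSpace Opposite

noncomputable section

namespace Groth.Agent.CIX45

open Groth.Agent

variable {Y : Scheme.{u}}

/-- `(r, e) ↦ r • e`. -/
def scalarBilin (L : Y.Modules) : H23.TensorDesc.Bilin (Coh.structureModule Y) L L where
  b U r e := (show Γ(Y, U) from r) • e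
  add_left U m m' n := add_smul _ _ _
  smul_left U r m n := mul_smul _ _ _
  add_right U m n n' := smul_add _ _ _
  smul_right U r m n := smul_comm _ _ _
  res {U V} h m n := AModX.res_smul h _ n

/-- `O ⊗ L ⟶ L`. -/
def scalarMap (L : Y.Modules) : CohB1.tensorMod (Coh.structureModule Y) L ⟶ L :=
  H23.TensorDesc.desc (scalarBilin L)

theorem scalarMap_tmul (L : Y.Modules) (U : Y.Opens) (r : Γ(Y, U)) (e : Γ(L, U)) :
    (scalarMap L).app U (InvX.tmul (show Γ(Coh.structureModule Y, U) from r) e) = r • e :=
  H23.TensorDesc.desc_tmul (scalarBilin L) U r e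

theorem isIso_scalarMap {L : Y.Modules} (hL : PicF.IsInvertible L) : IsIso (scalarMap L) := by
  choose U hU e he using InvX.exists_frame hL
  refine SurfInt.isIso_of_frames (scalarMap L) U hU
    (fun x => InvX.tmul (show Γ(Coh.structureModule Y, U x) from (1 : Γ(Y, U x))) (e x))
    (fun x => InvX.isFrame_tmul (InvX.isFrame_one (U x)) (he x)) fun x => ?_
  rw [scalarMap_tmul, one_smul]
  exact he x

variable (J : Y.IdealSheafData)

/-- The restriction sequence `0 → I ⊗ M → M → i_* i^* M → 0`, whose surjection is the unit. -/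
theorem exists_restr_seq {M : Y.Modules} (hM : PicF.IsInvertible M) :
    ∃ (S : ShortComplex Y.Modules), S.ShortExact ∧ Nonempty (S.X₁ ≅ CohB1.tensorMod (ClSub.idealMod J) M) ∧
      ∃ (e₂ : S.X₂ ≅ M) (e₃ : S.X₃ ≅ (Scheme.Modules.pushforward J.subschemeι).obj
          ((Scheme.Modules.pullback J.subschemeι).obj M)),
        e₂.inv ≫ S.g ≫ e₃.hom = (Scheme.Modules.pullbackPushforwardAdjunction J.subschemeι).unit.app M := by
  let ι := J.subschemeι
  let P := (Scheme.Modules.pullback ι).obj M
  have hP : PicF.IsInvertible P := PicClLib.isInvertible_pullback ι hM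
  haveI := isIso_scalarMap hM
  haveI := isIso_scalarMap hP
  haveI : IsIso (KFlatLib.projMod ι (Coh.structureModule J.subscheme) M) :=
    KFlatLib.isIso_projMod_of_isClosedImmersion ι _ M
  let e₂ : CohB1.tensorMod (Coh.structureModule Y) M ≅ M := asIso (scalarMap M)
  let e₃ : CohB1.tensorMod ((Scheme.Modules.pushforward ι).obj (Coh.structureModule J.subscheme)) M ≅
      (Scheme.Modules.pushforward ι).obj P :=
    asIso (KFlatLib.projMod ι (Coh.structureModule J.subscheme) M) ≪≫
      (Scheme.Modules.pushforward ι).mapIso (asIso (scalarMap P))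
  refine ⟨(SurfInt.idealSeq J).map (AmpleVan.tw M), HodgeLef45.shortExact_tw hM (SurfInt.idealSeq_shortExact J),
    ⟨Iso.refl _⟩, e₂, e₃, ?_⟩
  rw [Iso.inv_comp_eq]
  show ((AmpleVan.tw M).map (ClSub.toSubscheme J)) ≫ e₃.hom =
    scalarMap M ≫ (Scheme.Modules.pullbackPushforwardAdjunction ι).unit.app M
  rw [← cancel_epi (inv (scalarMap M)), IsIso.inv_hom_id_assoc]
  refine Scheme.Modules.hom_ext _ _ fun U => ?_
  ext m
  have hinv : (inv (scalarMap M)).app U m = InvX.tmul (show Γ(Coh.structureModule Y, U) from (1 : Γ(Y, U))) m := by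
    have h0 : m = (scalarMap M).app U (InvX.tmul (show Γ(Coh.structureModule Y, U) from (1 : Γ(Y, U))) m) := by
      rw [scalarMap_tmul, one_smul]
    conv_lhs => rw [h0]
    exact congr(($(IsIso.hom_inv_id (scalarMap M))).app U _)
  show ((Scheme.Modules.pushforward ι).map (scalarMap P)).app U
      ((KFlatLib.projMod ι (Coh.structureModule J.subscheme) M).app U
        (((AmpleVan.tw M).map (ClSub.toSubscheme J)).app U ((inv (scalarMap M)).app U m))) = _
  rw [hinv]
  have hnat : ((AmpleVan.tw M).map (ClSub.toSubscheme J)).app U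
      (InvX.tmul (show Γ(Coh.structureModule Y, U) from (1 : Γ(Y, U))) m) =
      QCoh.tmS ((Scheme.Modules.pushforward ι).obj (Coh.structureModule J.subscheme)) M
        ((ClSub.toSubscheme J).app U (1 : Γ(Y, U))) m :=
    KFlatLib.tmSh_naturality_left (ClSub.toSubscheme J) M _ _
  rw [hnat]
  refine (congrArg (((Scheme.Modules.pushforward ι).map (scalarMap P)).app U)
    (SerreVan45.projMod_tmS ι (Coh.structureModule J.subscheme) M U
      (show Γ(Coh.structureModule J.subscheme, ι ⁻¹ᵁ U) from (ClSub.toSubscheme J).app U (1 : Γ(Y, U))) m)).trans ?_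
  refine (scalarMap_tmul P (ι ⁻¹ᵁ U) ((ι.app U).hom (1 : Γ(Y, U))) (InvX.pullElt ι m)).trans ?_
  rw [map_one, one_smul]
  rfl

/-- Restriction is surjective on global sections when `H¹(I ⊗ M) = 0`. -/
theorem surjective_restr {M : Y.Modules} (hM : PicF.IsInvertible M)
    (h : Subsingleton (Coh.HH Y (CohB1.tensorMod (ClSub.idealMod J) M) 1)) :
    Function.Surjective (((Scheme.Modules.pullbackPushforwardAdjunction J.subschemeι).unit.app M).app ⊤) := by
  obtain ⟨S, hS, ⟨e₁⟩, e₂, e₃, he⟩ := exists_restr_seq J hM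
  have hg := QCoh.app_top_surjective_of_HH_one hS (QCoh.subsingleton_HH_of_iso e₁.symm 1 h)
  rw [← he]
  intro z
  obtain ⟨y, hy⟩ := hg (e₃.inv.app ⊤ z)
  refine ⟨e₂.hom.app ⊤ y, ?_⟩
  show e₃.hom.app ⊤ (S.g.app ⊤ (e₂.inv.app ⊤ (e₂.hom.app ⊤ y))) = z
  rw [show e₂.inv.app ⊤ (e₂.hom.app ⊤ y) = y from congr(($(e₂.hom_inv_id)).app ⊤ y), hy]
  exact congr(($(e₃.inv_hom_id)).app ⊤ z)

/-- Vanishing descends to the closed subscheme. -/
theorem subsingleton_restr {M : Y.Modules} (hM : PicF.IsInvertible M) (p : ℕ)
    (h₁ : Subsingleton (Coh.HH Y (CohB1.tensorMod (ClSub.idealMod J) M) (p + 1)))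
    (h₂ : Subsingleton (Coh.HH Y M p)) :
    Subsingleton (Coh.HH J.subscheme ((Scheme.Modules.pullback J.subschemeι).obj M) p) := by
  obtain ⟨S, hS, ⟨e₁⟩, e₂, e₃, -⟩ := exists_restr_seq J hM
  have h₃ := QCoh.subsingleton_HH_of_iso e₃ p
    (PnCoh.Finite.subsingleton_HH_X₃ hS p (QCoh.subsingleton_HH_of_iso e₂.symm p h₂)
      (QCoh.subsingleton_HH_of_iso e₁.symm (p + 1) h₁))
  obtain ⟨e⟩ := QCoh.HH_push_of_isAffineHom J.subschemeι
    (ZeroSchX.isQCoh_inv (PicClLib.isInvertible_pullback J.subschemeι hM)) p
  exact e.toEquiv.subsingleton_congr.2 h₃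

section Comp

variable {X Z : Scheme.{u}} (i : Z ⟶ X) (j : X ⟶ Y) (N : Y.Modules)

/-- The unit of a composite is surjective when the two units are. -/
theorem surjective_unit_comp
    (hj : Function.Surjective (((Scheme.Modules.pullbackPushforwardAdjunction j).unit.app N).app ⊤))
    (hi : Function.Surjective (((Scheme.Modules.pullbackPushforwardAdjunction i).unit.app
      ((Scheme.Modules.pullback j).obj N)).app ⊤)) :
    Function.Surjective (((Scheme.Modules.pullbackPushforwardAdjunction (i ≫ j)).unit.app N).app ⊤) := by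
  let adj₁ := (Scheme.Modules.pullbackPushforwardAdjunction j).comp (Scheme.Modules.pullbackPushforwardAdjunction i)
  let adj₂ := Scheme.Modules.pullbackPushforwardAdjunction (i ≫ j)
  let α := (Scheme.Modules.pullbackComp i j).inv
  have h := unit_conjugateEquiv adj₁ adj₂ α N
  rw [Scheme.Modules.conjugateEquiv_pullbackComp_inv] at h
  intro z
  let e := (Scheme.Modules.pullbackComp i j).app N
  obtain ⟨y, hy⟩ := hi (show Γ((Scheme.Modules.pushforward i).obj ((Scheme.Modules.pullback i).obj
    ((Scheme.Modules.pullback j).obj N)), ⊤) from e.inv.app ⊤ z)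
  obtain ⟨x, hx⟩ := hj y
  refine ⟨x, ?_⟩
  have h' : e.inv.app ⊤ ((adj₂.unit.app N).app ⊤ x) = e.inv.app ⊤ z := by
    refine (congr(($h).app ⊤ x)).symm.trans ?_
    refine Eq.trans ?_ hy
    show ((Scheme.Modules.pullbackPushforwardAdjunction i).unit.app ((Scheme.Modules.pullback j).obj N)).app ⊤
        (((Scheme.Modules.pullbackPushforwardAdjunction j).unit.app N).app ⊤ x) = _
    rw [hx]
  have h2 := congrArg (e.hom.app ⊤) h'
  rw [show ∀ w, e.hom.app ⊤ (e.inv.app ⊤ w) = w from fun w => congr(($(e.inv_hom_id)).app ⊤ w)] at h2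
  exact h2.trans (congr(($(e.inv_hom_id)).app ⊤ z))

theorem surjective_unit_of_isIso [IsIso i] (M : X.Modules) (U : X.Opens) :
    Function.Surjective (((Scheme.Modules.pullbackPushforwardAdjunction i).unit.app M).app U) := by
  haveI : (Scheme.Modules.pushforward i).IsEquivalence :=
    (CategoryTheory.Equivalence.mk (Scheme.Modules.pushforward i) (Scheme.Modules.pushforward (inv i))
      ((Scheme.Modules.pushforwardId Z).symm ≪≫
        Scheme.Modules.pushforwardCongr (IsIso.hom_inv_id i).symm ≪≫
        (Scheme.Modules.pushforwardComp i (inv i)).symm)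
      (Scheme.Modules.pushforwardComp (inv i) i ≪≫
        Scheme.Modules.pushforwardCongr (IsIso.inv_hom_id i) ≪≫
        Scheme.Modules.pushforwardId X)).isEquivalence_functor
  haveI := (Scheme.Modules.pullbackPushforwardAdjunction i).isEquivalence_left_of_isEquivalence_right
  haveI : IsIso ((Scheme.Modules.pullbackPushforwardAdjunction i).unit.app M) := inferInstance
  exact (ConcreteCategory.bijective_of_isIso
    (((Scheme.Modules.pullbackPushforwardAdjunction i).unit.app M).app U)).2

theorem unit_iso_of_isIso [IsIso i] (M : X.Modules) :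
    Nonempty (M ≅ (Scheme.Modules.pushforward i).obj ((Scheme.Modules.pullback i).obj M)) := by
  haveI : (Scheme.Modules.pushforward i).IsEquivalence :=
    (CategoryTheory.Equivalence.mk (Scheme.Modules.pushforward i) (Scheme.Modules.pushforward (inv i))
      ((Scheme.Modules.pushforwardId Z).symm ≪≫
        Scheme.Modules.pushforwardCongr (IsIso.hom_inv_id i).symm ≪≫
        (Scheme.Modules.pushforwardComp i (inv i)).symm)
      (Scheme.Modules.pushforwardComp (inv i) i ≪≫
        Scheme.Modules.pushforwardCongr (IsIso.inv_hom_id i) ≪≫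
        Scheme.Modules.pushforwardId X)).isEquivalence_functor
  haveI := (Scheme.Modules.pullbackPushforwardAdjunction i).isEquivalence_left_of_isEquivalence_right
  haveI : IsIso ((Scheme.Modules.pullbackPushforwardAdjunction i).unit.app M) := inferInstance
  exact ⟨asIso ((Scheme.Modules.pullbackPushforwardAdjunction i).unit.app M)⟩

end Comp

end Groth.Agent.CIX45
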