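import Groth.Agent.CIX45.Scheme
import Groth.Agent.CIX45.Restr
import Groth.Agent.S0844

/-!
# The cohomology of twists on a complete intersection of projective space
-/

set_option autoImplicit false
set_option linter.style.haveILetI false
set_option backward.isDefEq.respectTransparency false
set_option backward.isDefEq.respectTransparency.types false
set_option maxHeartbeats 1000000

universe u

open CategoryTheory CategoryTheory.Limits AlgebraicGeometry TopologicalSpace Opposite

noncomputable section

namespace Groth.Agent.CIX45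

open Groth.Agent
open Groth.Agent.H23.PicMul

variable {k : Type u} [Field k] {n r : ℕ}

/-- The inclusion of the common zero scheme of forms. -/
abbrev cι {a : Fin r → ℕ} (G : ∀ j, LefPen.Form n k (a j)) :
    (LefPen.ciIdeal G).subscheme ⟶ CohB1.ProjSpace n k :=
  (LefPen.ciIdeal G).subschemeι

theorem ker_step {a : Fin (r + 1) → ℕ} (G : ∀ j, LefPen.Form n k (a j)) :
    (((LefPen.hypIdeal (G (Fin.last r))).comap (cι fun j : Fin r => G j.castSucc)).subschemeι ≫
        cι fun j : Fin r => G j.castSucc).ker = LefPen.ciIdeal G := by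
  set I := LefPen.ciIdeal fun j : Fin r => G j.castSucc with hI
  set J := (LefPen.hypIdeal (G (Fin.last r))).comap I.subschemeι with hJ
  refine Scheme.IdealSheafData.ext_of_iSup_eq_top (fun j => LefPenLib.chartA j)
    (top_le_iff.1 (ProjRegular.coords_cover.ge.trans (iSup_le fun j => le_iSup_of_le j.down le_rfl))) fun j => ?_
  rw [Scheme.Hom.ker_apply, Scheme.Hom.comp_app, ideal_ciIdeal_chart]
  show RingHom.ker ((J.subschemeι.app (LefPenLib.chartX I.subschemeι j)).hom.comp
    (I.subschemeι.app (LefPen.chart n k j)).hom) = _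
  rw [← RingHom.comap_ker, show RingHom.ker (J.subschemeι.app (LefPenLib.chartX I.subschemeι j)).hom =
      Ideal.span {(I.subschemeι.app (LefPen.chart n k j)).hom (LefPen.dehom (G (Fin.last r)) j)} from
    (J.ker_subschemeι_app (LefPenLib.chartXA I.subschemeι j)).trans
      (ideal_comap_hypIdeal I.subschemeι (G (Fin.last r)) j)]
  rw [← Set.image_singleton, ← Ideal.map_span,
    Ideal.comap_map_of_surjective _ (I.subschemeι.app_surjective _ (LefPenLib.isAffineOpen_chart j)),
    show Ideal.comap (I.subschemeι.app (LefPen.chart n k j)).hom ⊥ =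
        Ideal.span (Set.range fun l : Fin r => LefPen.dehom (G l.castSucc) j) from
      (I.ker_subschemeι_app (LefPenLib.chartA j)).trans (ideal_ciIdeal_chart _ j),
    show Set.range (fun l => LefPen.dehom (G l) j) =
        insert (LefPen.dehom (G (Fin.last r)) j) (Set.range fun l : Fin r => LefPen.dehom (G l.castSucc) j) from
      Set.ext fun x => by simp [Fin.exists_fin_succ', eq_comm, or_comm], Ideal.span_insert]

theorem nonempty_HH_iso {X Z : Scheme.{u}} (e : Z ⟶ X) [IsIso e] {W : X.Modules} (hW : PicF.IsInvertible W) (p : ℕ) :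
    Nonempty (Coh.HH Z ((Scheme.Modules.pullback e).obj W) p ≃+ Coh.HH X W p) := by
  obtain ⟨u⟩ := unit_iso_of_isIso e W
  obtain ⟨h⟩ := QCoh.HH_push_of_isAffineHom e (ZeroSchX.isQCoh_inv (PicClLib.isInvertible_pullback e hW)) p
  exact ⟨h.trans (((Sheaf.functorH _ p).mapIso
    ((SheafOfModules.toSheaf X.ringCatSheaf).mapIso u.symm)).addCommGroupIsoToAddEquiv)⟩

/-- Middle vanishing and surjectivity of restriction for complete intersections. -/
theorem cohom : ∀ (r : ℕ) {a : Fin r → ℕ}, (∀ j, 1 ≤ a j) → ∀ G : ∀ j, LefPen.Form n k (a j), r ≤ n → DimLE G →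
    (∀ (d : ℤ) (p : ℕ), 0 < p → p + r < n →
      Subsingleton (Coh.HH (LefPen.ciIdeal G).subscheme (Pic13Lib.hyp (cι G) d) p)) ∧
    (r + 1 ≤ n → ∀ d : ℤ, Function.Surjective (((Scheme.Modules.pullbackPushforwardAdjunction (cι G)).unit.app
      (Twist.twistProjSpace n k d)).app ⊤)) := by
  intro r
  induction r with
  | zero =>
    intro a _ G _ _
    haveI : IsIso (cι G) := IsClosedImmersion.isIso_iff_ker_eq_bot.2 (by
      rw [Scheme.IdealSheafData.ker_subschemeι]; exact iSup_of_empty _)
    refine ⟨fun d p hp hpn => ?_, fun _ d => surjective_unit_of_isIso (cι G) _ ⊤⟩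
    obtain ⟨e⟩ := nonempty_HH_iso (cι G) (isInvertible_twist d) p
    exact e.toEquiv.subsingleton_congr.2
      (S0844.result k n d p (fun h => hp.ne' h.1) (fun h => by omega))
  | succ r ih =>
    intro a ha G hr hG
    let G' : ∀ j : Fin r, LefPen.Form n k (a j.castSucc) := fun j => G j.castSucc
    obtain ⟨hv, hs⟩ := ih (fun j => ha j.castSucc) G' (by omega) (dimLE_prefix ha G hr hG)
    let J := (LefPen.hypIdeal (G (Fin.last r))).comap (cι G')
    obtain ⟨eJ⟩ := nonempty_idealMod_step ha G (by omega) hG
    have hI : ∀ d : ℤ, Nonempty (CohB1.tensorMod (ClSub.idealMod J) (Pic13Lib.hyp (cι G') d) ≅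
        Pic13Lib.hyp (cι G') (-(a (Fin.last r) : ℤ) + d)) := fun d => cl_eq_iff.1 (by
      rw [cl_tensor, cl_eq_iff.2 ⟨eJ⟩, ← Pic13Lib.cl_hyp_add])
    let g := J.subschemeι ≫ cι G'
    have hker : g.ker = (cι G).ker := by rw [Scheme.IdealSheafData.ker_subschemeι]; exact ker_step G
    let e := IsClosedImmersion.lift g (cι G) hker.le
    haveI : IsIso e := IsClosedImmersion.isIso_lift g (cι G) hker
    have hfac : e ≫ g = cι G := IsClosedImmersion.lift_fac _ _ _
    refine ⟨fun d p hp hpn => ?_, fun h1 d => ?_⟩
    · obtain ⟨eI⟩ := hI d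
      have hY := subsingleton_restr J (Pic13Lib.isInvertible_hyp (cι G') d) p
        (QCoh.subsingleton_HH_of_iso eI.symm (p + 1) (hv _ (p + 1) (by omega) (by omega)))
        (hv d p hp (by omega))
      let W := (Scheme.Modules.pullback J.subschemeι).obj (Pic13Lib.hyp (cι G') d)
      have hW : PicF.IsInvertible W :=
        PicClLib.isInvertible_pullback _ (Pic13Lib.isInvertible_hyp (cι G') d)
      obtain ⟨eh⟩ := nonempty_HH_iso e hW p
      have h3 := eh.toEquiv.subsingleton_congr.2 hY
      refine QCoh.subsingleton_HH_of_iso ?_ p h3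
      exact (Scheme.Modules.pullback e).mapIso ((Scheme.Modules.pullbackComp J.subschemeι (cι G')).app _) ≪≫
        (Scheme.Modules.pullbackComp e g).app _ ≪≫
        (Scheme.Modules.pullbackCongr hfac).app (Twist.twistProjSpace n k d)
    · obtain ⟨eI⟩ := hI d
      have hg : Function.Surjective (((Scheme.Modules.pullbackPushforwardAdjunction g).unit.app
          (Twist.twistProjSpace n k d)).app ⊤) :=
        surjective_unit_comp J.subschemeι (cι G') _ (hs (by omega) d)
          (surjective_restr J (Pic13Lib.isInvertible_hyp (cι G') d)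
            (QCoh.subsingleton_HH_of_iso eI.symm 1 (hv _ 1 one_pos (by omega))))
      rw [← hfac]
      exact surjective_unit_comp e g _ hg (surjective_unit_of_isIso e _ _)

end Groth.Agent.CIX45
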