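import Groth.Agent.CIX45.Scheme

/-!
# The components of a complete intersection of projective space
-/

set_option autoImplicit false
set_option linter.style.haveILetI false
set_option backward.isDefEq.respectTransparency false
set_option backward.isDefEq.respectTransparency.types false

universe u

open CategoryTheory CategoryTheory.Limits AlgebraicGeometry TopologicalSpace

noncomputable section

namespace Groth.Agent.CIX45

open Groth.Agent Groth.Agent.VarDim Groth.Agent.VarDim.ProjN

variable {k : Type u} [Field k] {n r : ℕ}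

local notation "𝒜" => CohB1.polyGrading n k

/-- A minimal point of the common zeros of `r` forms has dimension at least `n - r`. -/
theorem le_pdim_add {a : Fin r → ℕ} (G : ∀ j, LefPen.Form n k (a j)) {c : ProjectiveSpectrum 𝒜}
    (hc : pI G ≤ (pp c).asIdeal) (hmin : ∀ d : ProjectiveSpectrum 𝒜, pI G ≤ (pp d).asIdeal → d ≤ c → d = c) :
    n ≤ pdim c + r := by
  classical
  have hP := mem_minimalPrimes_of_minimal (isHomogeneous_pI G) hc hmin
  have hspan : pI G = Ideal.span ((Finset.univ.image fun j => (G j).1 : Finset _) : Set (MvPolynomial (Fin (n + 1)) k)) := by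
    rw [Finset.coe_image, Finset.coe_univ, Set.image_univ]
  rw [hspan] at hP
  have hh := Ideal.height_le_card_of_mem_minimalPrimes_span_finset hP
  rw [(pp c).height_eq_orderHeight] at hh
  have hsum := height_add_coheight_pp (pp c)
  rw [coheight_pp_eq] at hsum
  obtain ⟨m, hm⟩ := ENat.ne_top_iff_exists.1 (ne_top_of_le_ne_top (ENat.natCast_ne_top (n + 1))
    (le_self_add.trans_eq hsum))
  rw [← hm] at hsum hh
  have h1 : m + (pdim c + 1) = n + 1 := by exact_mod_cast hsum
  have h2 : m ≤ r := (by exact_mod_cast hh : m ≤ (Finset.univ.image fun j => (G j).1).card).trans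
    (Finset.card_image_le.trans (by simp))
  omega

/-- The irreducible components of a complete intersection have the expected dimension. -/
theorem topologicalKrullDim_component {a : Fin r → ℕ} (ha : ∀ j, 1 ≤ a j) (G : ∀ j, LefPen.Form n k (a j))
    (hr : r ≤ n) (hdim : DimLE G) (Z : Set ↥(LefPen.ciIdeal G).subscheme)
    (hZ : Z ∈ irreducibleComponents ↥(LefPen.ciIdeal G).subscheme) :
    topologicalKrullDim ↥Z = ((n - r : ℕ) : WithBot ℕ∞) := by
  let Yset : Set (ProjectiveSpectrum 𝒜) :=
    ((LefPen.ciIdeal G).support : Set ↥(CohB1.ProjSpace n k))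
  have hY : IsClosed Yset := (LefPen.ciIdeal G).support.isClosed'
  let e : ↥(LefPen.ciIdeal G).subscheme ≃ₜ ↥Yset :=
    (LefPen.ciIdeal G).subschemeι.isClosedEmbedding.isEmbedding.toHomeomorph.trans
      (Homeomorph.setCongr (LefPen.ciIdeal G).range_subschemeι)
  have hZ' : e '' Z ∈ irreducibleComponents ↥Yset := by
    refine ⟨hZ.1.image e e.continuous.continuousOn, fun T hT hle => ?_⟩
    have h1 := hZ.2 (hT.image e.symm e.symm.continuous.continuousOn) (fun x hx => ⟨e x, hle ⟨x, hx, rfl⟩, by simp⟩)
    intro y hy
    exact ⟨e.symm y, h1 ⟨y, hy, rfl⟩, by simp⟩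
  obtain ⟨c, hc, hmin, hdimc⟩ := exists_minimal_of_mem_irreducibleComponents hY hZ'
  have hc' : pI G ≤ (pp c).asIdeal := (mem_support_ciIdeal ha G c).1 hc
  have hge := le_pdim_add G hc' fun d hd => hmin d ((mem_support_ciIdeal ha G d).2 hd)
  have hle := hdim c hc'
  rw [(e.image Z).isHomeomorph.topologicalKrullDim_eq, hdimc, show pdim c = n - r by omega]

end Groth.Agent.CIX45
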