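import Groth.Agent.CIX45.Cohom
import Groth.Agent.PnCoh.Global
import Groth.Agent.InvX.GenLocusPull

/-!
# Global functions of a complete intersection of projective space
-/

set_option autoImplicit false
set_option linter.style.haveILetI false
set_option backward.isDefEq.respectTransparency false
set_option backward.isDefEq.respectTransparency.types false

universe u

open CategoryTheory CategoryTheory.Limits AlgebraicGeometry TopologicalSpace Opposite

noncomputable section

namespace Groth.Agent.CIX45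

open Groth.Agent

variable {k : Type u} [Field k] {n r : ℕ}

/-- Surjectivity of restriction of `O(0)` gives surjectivity on functions. -/
theorem surjective_appTop_of_twist_zero {X : Scheme.{u}} (ι : X ⟶ CohB1.ProjSpace n k)
    (h : Function.Surjective (((Scheme.Modules.pullbackPushforwardAdjunction ι).unit.app
      (Twist.twistProjSpace n k 0)).app ⊤)) : Function.Surjective ι.appTop := by
  obtain ⟨u⟩ := RegEpi.unitIso (k := k) (n := n)
  let one : Γ(Twist.twistProjSpace n k 0, ⊤) := u.hom.app ⊤ (1 : Γ(CohB1.ProjSpace n k, ⊤))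
  have hone : InvX.IsFrame one := InvX.IsFrame.map_iso u (InvX.isFrame_one ⊤)
  intro y
  obtain ⟨z, hz⟩ := h ((show Γ(X, ι ⁻¹ᵁ (⊤ : (CohB1.ProjSpace n k).Opens)) from y) • InvX.pullElt ι one)
  obtain ⟨c, hc⟩ := hone.exists_coord le_rfl z
  rw [AModX.res_self] at hc
  refine ⟨c, ?_⟩
  have h2 := Scheme.Modules.Hom.app_smul ((Scheme.Modules.pullbackPushforwardAdjunction ι).unit.app
    (Twist.twistProjSpace n k 0)) (U := (⊤ : (CohB1.ProjSpace n k).Opens)) c one
  rw [← hc] at h2
  have h3 : ι.app ⊤ c • InvX.pullElt ι one =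
      (show Γ(X, ι ⁻¹ᵁ (⊤ : (CohB1.ProjSpace n k).Opens)) from y) • InvX.pullElt ι one := h2.symm.trans hz
  exact (InvX.isFrame_pullElt ι hone).coord_unique le_rfl (by rw [AModX.res_self]; exact h3)

theorem nonempty_subscheme {a : Fin r → ℕ} (G : ∀ j, LefPen.Form n k (a j))
    (hdim : topologicalKrullDim ↥(LefPen.ciIdeal G).subscheme = ((n - r : ℕ) : WithBot ℕ∞)) :
    Nonempty ↥(LefPen.ciIdeal G).subscheme := by
  by_contra h
  rw [not_nonempty_iff] at h
  haveI : IsEmpty (IrreducibleCloseds ↥(LefPen.ciIdeal G).subscheme) :=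
    ⟨fun C => h.false C.isIrreducible.nonempty.choose⟩
  rw [topologicalKrullDim, Order.krullDim_eq_bot] at hdim
  exact WithBot.bot_ne_coe hdim

/-- A complete intersection of positive dimension has only constant functions. -/
theorem bijective_appTop {a : Fin r → ℕ} (ha : ∀ j, 1 ≤ a j) (G : ∀ j, LefPen.Form n k (a j)) (hr : r + 1 ≤ n)
    (hdim : topologicalKrullDim ↥(LefPen.ciIdeal G).subscheme = ((n - r : ℕ) : WithBot ℕ∞)) :
    Function.Bijective (cι G ≫ CohB1.ProjSpace.toSpec n k).appTop := by
  have hb : Function.Bijective (CohB1.ProjSpace.toSpec n k).appTop :=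
    PnCoh.bijective_toSpecR_appTop (ι := Fin (n + 1)) (R := k)
  have hsurj := surjective_appTop_of_twist_zero (cι G)
    ((cohom r ha G (by omega) (dimLE_of_topologicalKrullDim ha G (by omega) hdim)).2 hr 0)
  refine ⟨?_, ?_⟩
  · obtain ⟨x⟩ := nonempty_subscheme G hdim
    haveI : Nontrivial Γ((LefPen.ciIdeal G).subscheme, ⊤) :=
      ((LefPen.ciIdeal G).subscheme.presheaf.germ (⊤ : (LefPen.ciIdeal G).subscheme.Opens) x trivial).hom.domain_nontrivial
    let φ : k →+* Γ((LefPen.ciIdeal G).subscheme, ⊤) :=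
      (cι G ≫ CohB1.ProjSpace.toSpec n k).appTop.hom.comp (Scheme.ΓSpecIso (CommRingCat.of k)).inv.hom
    intro s t hst
    obtain ⟨s', rfl⟩ := (ConcreteCategory.bijective_of_isIso (Scheme.ΓSpecIso (CommRingCat.of k)).inv).2 s
    obtain ⟨t', rfl⟩ := (ConcreteCategory.bijective_of_isIso (Scheme.ΓSpecIso (CommRingCat.of k)).inv).2 t
    rw [φ.injective (show φ s' = φ t' from hst)]
  · rw [Scheme.Hom.comp_appTop]
    exact hsurj.comp hb.2

end Groth.Agent.CIX45
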