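import Groth.Agent.CIX45.Gamma

/-!
# Hypersurfaces of projective space
-/

set_option autoImplicit false
set_option linter.style.haveILetI false
set_option backward.isDefEq.respectTransparency false
set_option backward.isDefEq.respectTransparency.types false
set_option maxHeartbeats 1000000

universe u

open CategoryTheory CategoryTheory.Limits AlgebraicGeometry TopologicalSpace Opposite

noncomputable section

namespace Groth.Agent.CIX45

open Groth.Agent Groth.Agent.VarDim Groth.Agent.VarDim.ProjN
open Groth.Agent.H23.PicMul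

variable {k : Type u} [Field k] {N e : ℕ}

/-- The inclusion of a hypersurface. -/
abbrev hι (G : LefPen.Form N k e) : (LefPen.hypIdeal G).subscheme ⟶ CohB1.ProjSpace N k :=
  (LefPen.hypIdeal G).subschemeι

theorem hypIdeal_zero : LefPen.hypIdeal (0 : LefPen.Form N k e) = ⊥ := by
  refine Scheme.IdealSheafData.ext_of_iSup_eq_top (fun j => LefPenLib.chartA j)
    (top_le_iff.1 (ProjRegular.coords_cover.ge.trans (iSup_le fun j => le_iSup_of_le j.down le_rfl))) fun j => ?_
  rw [LefPenLib.hypIdeal_chart, LefPenLib.dehom_eq]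
  simp

theorem isIso_hι_zero : IsIso (hι (0 : LefPen.Form N k e)) :=
  IsClosedImmersion.isIso_iff_ker_eq_bot.2 (by rw [Scheme.IdealSheafData.ker_subschemeι]; exact hypIdeal_zero)

theorem nonempty_hypersurface (he : 1 ≤ e) (hN : 1 ≤ N) (G : LefPen.Form N k e) :
    Nonempty ↥(LefPen.hypIdeal G).subscheme := by
  classical
  obtain ⟨P, hP, -⟩ := Ideal.exists_minimalPrimes_le
    (show Ideal.span (({G.1} : Finset _) : Set (MvPolynomial (Fin (N + 1)) k)) ≤ vertex k N from
      Ideal.span_le.2 (by
        intro b hb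
        rw [Finset.coe_singleton, Set.mem_singleton_iff] at hb
        exact hb ▸ form_mem_vertex he G))
  haveI := hP.1.1
  have hne : P ≠ vertex k N := by
    intro hv
    have h1 := Ideal.height_le_card_of_mem_minimalPrimes_span_finset hP
    rw [Finset.card_singleton, (⟨P, hP.1.1⟩ : PrimeSpectrum _).height_eq_orderHeight] at h1
    have hsum := height_add_coheight_pp (⟨P, hP.1.1⟩ : PrimeSpectrum (MvPolynomial (Fin (N + 1)) k))
    have hco : Order.coheight (⟨P, hP.1.1⟩ : PrimeSpectrum (MvPolynomial (Fin (N + 1)) k)) = 0 := by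
      subst hv; exact coheight_vertexPoint
    rw [hco, add_zero] at hsum
    rw [hsum] at h1
    have : N + 1 ≤ 1 := by exact_mod_cast h1
    omega
  obtain ⟨x, hx⟩ := exists_point_minimal (Ideal.homogeneous_span _ _ (by
      intro b hb
      rw [Finset.coe_singleton, Set.mem_singleton_iff] at hb
      exact hb ▸ ⟨e, G.2⟩)) hP hne
  have hmem : x ∈ Set.range (hι G) := by
    rw [Scheme.IdealSheafData.range_subschemeι]
    exact (mem_support_hypIdeal he G x).2 (hx ▸ hP.1.2 (Ideal.subset_span (by simp)))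
  exact ⟨hmem.choose⟩

theorem cl_idealMod_tensor (G : LefPen.Form N k e) (hG : G ≠ 0) (d : ℤ) :
    Nonempty (CohB1.tensorMod (ClSub.idealMod (LefPen.hypIdeal G)) (Twist.twistProjSpace N k d) ≅
      Twist.twistProjSpace N k (-(e : ℤ) + d)) := by
  obtain ⟨i⟩ := nonempty_idealMod_hypIdeal G hG
  exact cl_eq_iff.1 (by rw [cl_tensor, cl_eq_iff.2 ⟨i⟩, cl_twist_add])

/-- Vanishing of the cohomology of twists on a hypersurface. -/
theorem subsingleton_hyp (G : LefPen.Form N k e) (d : ℤ) (p : ℕ)
    (h1 : G ≠ 0 → Subsingleton (Coh.HH (CohB1.ProjSpace N k) (Twist.twistProjSpace N k (-(e : ℤ) + d)) (p + 1)))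
    (h2 : Subsingleton (Coh.HH (CohB1.ProjSpace N k) (Twist.twistProjSpace N k d) p)) :
    Subsingleton (Coh.HH (LefPen.hypIdeal G).subscheme (Pic13Lib.hyp (hι G) d) p) := by
  rcases eq_or_ne G 0 with rfl | hG
  · haveI := isIso_hι_zero (k := k) (N := N) (e := e)
    obtain ⟨i⟩ := nonempty_HH_iso (hι (0 : LefPen.Form N k e)) (isInvertible_twist d) p
    exact i.toEquiv.subsingleton_congr.2 h2
  · obtain ⟨i⟩ := cl_idealMod_tensor G hG d
    exact subsingleton_restr _ (isInvertible_twist d) p (QCoh.subsingleton_HH_of_iso i.symm (p + 1) (h1 hG)) h2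

theorem subsingleton_structureModule (G : LefPen.Form N k e) (p : ℕ)
    (h : Subsingleton (Coh.HH (LefPen.hypIdeal G).subscheme (Pic13Lib.hyp (hι G) 0) p)) :
    Subsingleton (Coh.HH (LefPen.hypIdeal G).subscheme (Coh.structureModule (LefPen.hypIdeal G).subscheme) p) := by
  obtain ⟨i⟩ := cl_eq_iff.1 ((Pic13Lib.cl_hyp_zero (hι G)).trans H23.PicMul.one_def)
  exact QCoh.subsingleton_HH_of_iso i p h

/-- A hypersurface of positive dimension has only constant functions. -/
theorem bijective_appTop_hyp (he : 1 ≤ e) (hN : 2 ≤ N) (G : LefPen.Form N k e) :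
    Function.Bijective (hι G ≫ CohB1.ProjSpace.toSpec N k).appTop := by
  have hb : Function.Bijective (CohB1.ProjSpace.toSpec N k).appTop :=
    PnCoh.bijective_toSpecR_appTop (ι := Fin (N + 1)) (R := k)
  have hsurj : Function.Surjective (hι G).appTop := by
    refine surjective_appTop_of_twist_zero (hι G) ?_
    rcases eq_or_ne G 0 with rfl | hG
    · haveI := isIso_hι_zero (k := k) (N := N) (e := e)
      exact surjective_unit_of_isIso _ _ ⊤
    · obtain ⟨i⟩ := cl_idealMod_tensor G hG 0
      exact surjective_restr _ (isInvertible_twist 0) (QCoh.subsingleton_HH_of_iso i.symm 1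
        (S0844.result k N _ 1 (fun h => one_ne_zero h.1) (fun h => by omega)))
  refine ⟨?_, by rw [Scheme.Hom.comp_appTop]; exact hsurj.comp hb.2⟩
  obtain ⟨x⟩ := nonempty_hypersurface he (by omega) G
  haveI : Nontrivial Γ((LefPen.hypIdeal G).subscheme, ⊤) :=
    ((LefPen.hypIdeal G).subscheme.presheaf.germ (⊤ : (LefPen.hypIdeal G).subscheme.Opens) x trivial).hom.domain_nontrivial
  let φ : k →+* Γ((LefPen.hypIdeal G).subscheme, ⊤) :=
    (hι G ≫ CohB1.ProjSpace.toSpec N k).appTop.hom.comp (Scheme.ΓSpecIso (CommRingCat.of k)).inv.hom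
  intro s t hst
  obtain ⟨s', rfl⟩ := (ConcreteCategory.bijective_of_isIso (Scheme.ΓSpecIso (CommRingCat.of k)).inv).2 s
  obtain ⟨t', rfl⟩ := (ConcreteCategory.bijective_of_isIso (Scheme.ΓSpecIso (CommRingCat.of k)).inv).2 t
  rw [φ.injective (show φ s' = φ t' from hst)]

end Groth.Agent.CIX45
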