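import Groth.Agent.CIX45.Hyper
import Groth.Agent.Growth22.PnChi
import Groth.Agent.Pic13Lib.EulerPush
import Groth.Agent.GrpSchLib.AntiAffine
import Groth.Agent.GeomField.GlobalFunctions
import Groth.Agent.CurveCohLib.Euler
import Groth.Agent.SheafHomX.Coherent

/-!
# The cohomology of the structure sheaf of a plane curve
-/

set_option autoImplicit false
set_option linter.style.haveILetI false
set_option backward.isDefEq.respectTransparency false
set_option backward.isDefEq.respectTransparency.types false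
set_option maxHeartbeats 1000000

universe u

open CategoryTheory CategoryTheory.Limits AlgebraicGeometry TopologicalSpace Opposite

attribute [local instance] HasDerivedCategory.standard

noncomputable section

namespace Groth.Agent.CIX45

open Groth.Agent
open Groth.Agent.H23.PicMul

attribute [local instance] GeomField.globalAlgebra

/-- `h⁰ = 1`, connectedness and arithmetic genus of a plane curve. -/
theorem planeCurve (k : Type u) [Field k] (d : ℕ) (hd : 1 ≤ d) (G : LefPen.Form 2 k d) (hG : G ≠ 0)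
    [inst : ((LefPen.hypIdeal G).subscheme).Over (Spec (CommRingCat.of k))]
    (hinst : (LefPen.hypIdeal G).subscheme ↘ (Spec (CommRingCat.of k)) = hι G ≫ CohB1.ProjSpace.toSpec 2 k) :
    Module.finrank k (Coh.HH (LefPen.hypIdeal G).subscheme (Coh.structureModule (LefPen.hypIdeal G).subscheme) 0) = 1 ∧
      ConnectedSpace ↥((LefPen.hypIdeal G).subscheme) ∧
      Module.finrank k (Coh.HH (LefPen.hypIdeal G).subscheme (Coh.structureModule (LefPen.hypIdeal G).subscheme) 1) =
        (d - 1) * (d - 2) / 2 := by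
  haveI : IsProper (CohB1.ProjSpace 2 k ↘ Spec (CommRingCat.of k)) := PnCoh.Chow.isProper_toSpec 2 k
  haveI : IsProper ((LefPen.hypIdeal G).subscheme ↘ Spec (CommRingCat.of k)) := by
    rw [hinst]
    exact inferInstanceAs (IsProper (hι G ≫ (CohB1.ProjSpace 2 k ↘ Spec (CommRingCat.of k))))
  have hb : Function.Bijective ((LefPen.hypIdeal G).subscheme ↘ Spec (CommRingCat.of k)).appTop := by
    rw [hinst]; exact bijective_appTop_hyp hd le_rfl G
  have h0 : Module.finrank k (Coh.HH (LefPen.hypIdeal G).subscheme (Coh.structureModule (LefPen.hypIdeal G).subscheme) 0) = 1 := by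
    rw [GeomField.finrank_HH_zero]
    have hb' : Function.Bijective (algebraMap k Γ((LefPen.hypIdeal G).subscheme, ⊤)) :=
      (GrpSchLib.AntiAffine.bijective_appTop_iff _).2 hb
    rw [← (LinearEquiv.ofBijective (Algebra.linearMap k Γ((LefPen.hypIdeal G).subscheme, ⊤)) hb').finrank_eq,
      Module.finrank_self]
  refine ⟨h0, GrpSchLib.AntiAffine.connectedSpace_of_bijective hb, ?_⟩
  haveI := Pic13Lib.isNoetherian (hι G)
  haveI : IsNoetherian (CohB1.ProjSpace 2 k) := Pic13Lib.isNoetherian (𝟙 _)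
  have hvan : ∀ i, 2 ≤ i → Subsingleton (Coh.HH (LefPen.hypIdeal G).subscheme
      (Coh.structureModule (LefPen.hypIdeal G).subscheme) i) := fun i hi =>
    subsingleton_structureModule G i (subsingleton_hyp G 0 i
      (fun _ => S0844.result k 2 _ (i + 1) (fun h => by omega) (fun h => by omega))
      (S0844.result k 2 0 i (fun h => by omega) (fun h => by omega)))
  have hE : Curv2.euler k (LefPen.hypIdeal G).subscheme (Coh.structureModule (LefPen.hypIdeal G).subscheme) =
      (1 : ℤ) - (Module.finrank k (Coh.HH (LefPen.hypIdeal G).subscheme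
        (Coh.structureModule (LefPen.hypIdeal G).subscheme) 1) : ℤ) := by
    rw [CurveCohLib.euler_eq_sum hvan, Finset.sum_range_succ, Finset.sum_range_one, h0]
    ring
  have hcoh : ∀ m : ℤ, Coh.IsCoh (Twist.twistProjSpace 2 k m) := fun m =>
    CurveDeg.isCoh_of_isInvertible (isInvertible_twist m)
  obtain ⟨S, hS, ⟨e₁⟩, e₂, e₃, -⟩ := exists_restr_seq (LefPen.hypIdeal G) (M := Twist.twistProjSpace 2 k 0) (isInvertible_twist 0)
  obtain ⟨i₁⟩ := cl_idealMod_tensor G hG 0
  have hA := HilbPoly.additive_euler (X := CohB1.ProjSpace 2 k) k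
  have hC := CurveDeg.isCoh_of_isInvertible (Pic13Lib.isInvertible_hyp (hι G) 0)
  have hadd := hA.add S hS (SheafHomX.isCoh_of_iso (e₁ ≪≫ i₁).symm (hcoh _)) (SheafHomX.isCoh_of_iso e₂.symm (hcoh 0))
    (SheafHomX.isCoh_of_iso e₃.symm (Pic13Lib.isCoh_push (hι G) hC))
  rw [hA.iso _ _ ⟨e₁ ≪≫ i₁⟩, hA.iso _ _ ⟨e₂⟩, hA.iso _ _ ⟨e₃⟩, Growth22.euler_twist, Growth22.euler_twist] at hadd
  have hP := Pic13Lib.euler_push (hι G) hinst.symm hC.1
  obtain ⟨u⟩ := cl_eq_iff.1 ((Pic13Lib.cl_hyp_zero (hι G)).trans H23.PicMul.one_def)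
  have hu := (HilbPoly.additive_euler (X := (LefPen.hypIdeal G).subscheme) k).iso _ _ ⟨u⟩
  have hc0 : Ring.choose ((0 : ℤ) + (2 : ℕ)) 2 = 1 := by
    rw [zero_add, Ring.choose_natCast]; rfl
  have hc1 : 2 * Ring.choose (-(d : ℤ) + 0 + (2 : ℕ)) 2 = ((d : ℤ) - 1) * ((d : ℤ) - 2) := by
    have h := Ring.descPochhammer_eq_factorial_smul_choose (-(d : ℤ) + 0 + (2 : ℕ)) 2
    simp [descPochhammer_succ_right, Polynomial.smeval_mul, Polynomial.smeval_sub, Polynomial.smeval_X,
      Nat.factorial] at h
    simp only [add_zero, Nat.cast_ofNat]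
    linarith
  set c := Ring.choose (-(d : ℤ) + 0 + (2 : ℕ)) 2
  rw [hc0] at hadd
  have hh : (Module.finrank k (Coh.HH (LefPen.hypIdeal G).subscheme
      (Coh.structureModule (LefPen.hypIdeal G).subscheme) 1) : ℤ) = c := by
    rw [hu, hE] at hP
    linarith
  rcases Nat.eq_or_lt_of_le hd with h | h
  · subst h
    norm_num at hc1 ⊢
    omega
  · have : 2 * Module.finrank k (Coh.HH (LefPen.hypIdeal G).subscheme
        (Coh.structureModule (LefPen.hypIdeal G).subscheme) 1) = (d - 1) * (d - 2) := by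
      zify [show 1 ≤ d by omega, show 2 ≤ d by omega]
      rw [hh]; exact hc1
    rw [← this, Nat.mul_div_cancel_left _ two_pos]

end Groth.Agent.CIX45
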