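import Groth.Agent.LC.GorLoc
import Groth.Agent.LC.GorHull
import Groth.Agent.LC.DepthExt
import Groth.Agent.VarDim.Proj
import Groth.Prelude.Def_LefPen
import Mathlib.RingTheory.RegularLocalRing.Polynomial

/-!
# Regular sequences of forms cutting out a complete intersection of projective space
-/

set_option autoImplicit false
set_option linter.style.haveILetI false
set_option backward.isDefEq.respectTransparency false
set_option backward.isDefEq.respectTransparency.types false

universe u

open MvPolynomial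

noncomputable section

namespace Groth.Agent.CIX45

open Groth.Agent Groth.Agent.VarDim Groth.Agent.VarDim.ProjN

variable {k : Type u} [Field k] {n r : ℕ}

/-- The ideal generated by a family of forms. -/
abbrev pI {a : Fin r → ℕ} (G : ∀ j, LefPen.Form n k (a j)) : Ideal (MvPolynomial (Fin (n + 1)) k) :=
  Ideal.span (Set.range fun j => (G j).1)

/-- The common zeros of the forms have dimension at most `n - r`. -/
def DimLE {a : Fin r → ℕ} (G : ∀ j, LefPen.Form n k (a j)) : Prop :=
  ∀ x : ProjectiveSpectrum (CohB1.polyGrading n k), pI G ≤ (pp x).asIdeal → pdim x + r ≤ n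

theorem isHomogeneous_pI {a : Fin r → ℕ} (G : ∀ j, LefPen.Form n k (a j)) :
    (pI G).IsHomogeneous (CohB1.polyGrading n k) :=
  Ideal.homogeneous_span _ _ (by rintro _ ⟨j, rfl⟩; exact ⟨a j, (G j).2⟩)

theorem form_mem_vertex {d : ℕ} (hd : 1 ≤ d) (G : LefPen.Form n k d) : G.1 ∈ vertex k n := by
  show constantCoeff G.1 = 0
  rw [constantCoeff_eq]
  refine ((mem_homogeneousSubmodule d G.1).1 G.2).coeff_eq_zero ?_
  simp
  omega

theorem dimLE_prefix {a : Fin (r + 1) → ℕ} (ha : ∀ j, 1 ≤ a j) (G : ∀ j, LefPen.Form n k (a j))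
    (hr : r + 1 ≤ n) (h : DimLE G) : DimLE (fun j : Fin r => G j.castSucc) := by
  intro x hx
  set J := (pp x).asIdeal ⊔ Ideal.span (({(G (Fin.last r)).1} : Finset _) : Set (MvPolynomial (Fin (n + 1)) k))
    with hJdef
  have hJ : J.IsHomogeneous (CohB1.polyGrading n k) :=
    (isHomogeneous_pp x).sup (Ideal.homogeneous_span _ _ (by
      intro b hb
      rw [Finset.coe_singleton, Set.mem_singleton_iff] at hb
      exact hb ▸ ⟨_, (G (Fin.last r)).2⟩))
  have hJle : J ≤ vertex k n := sup_le (pp_lt_vertexPoint x).le (Ideal.span_le.2 (by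
    intro b hb
    rw [Finset.coe_singleton, Set.mem_singleton_iff] at hb
    exact hb ▸ form_mem_vertex (ha _) _))
  obtain ⟨P, hP, -⟩ := Ideal.exists_minimalPrimes_le hJle
  have h1 : Order.coheight (pp x) ≤ Order.coheight (⟨P, hP.1.1⟩ : PrimeSpectrum (MvPolynomial (Fin (n + 1)) k)) + 1 :=
    (coheight_le_of_mem_minimalPrimes_sup (k := k) (q := pp x) (p := ⟨P, hP.1.1⟩) {(G (Fin.last r)).1} hP).trans_eq
      (by simp)
  rw [coheight_pp_eq] at h1
  by_cases hv : P = vertex k n
  · subst hv
    rw [show (⟨vertex k n, hP.1.1⟩ : PrimeSpectrum (MvPolynomial (Fin (n + 1)) k)) = vertexPoint k n from rfl,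
      coheight_vertexPoint, zero_add] at h1
    have : pdim x + 1 ≤ 1 := by exact_mod_cast h1
    omega
  · obtain ⟨z, hz⟩ := exists_point_minimal hJ hP hv
    rw [← show pp z = ⟨P, hP.1.1⟩ from PrimeSpectrum.ext hz, coheight_pp_eq] at h1
    have h2 : pdim x + 1 ≤ pdim z + 1 + 1 := by exact_mod_cast h1
    have h3 : pdim z + (r + 1) ≤ n := h z (Ideal.span_le.2 (by
      rintro _ ⟨j, rfl⟩
      rw [hz]
      refine Fin.lastCases ?_ (fun i => ?_) j
      · exact hP.1.2 (Ideal.mem_sup_right (Ideal.subset_span (by simp)))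
      · exact hP.1.2 (Ideal.mem_sup_left (hx (Ideal.subset_span ⟨i, rfl⟩)))))
    omega

theorem le_height {a : Fin r → ℕ} (G : ∀ j, LefPen.Form n k (a j)) (hr : r ≤ n + 1) (h : DimLE G) :
    (r : ℕ∞) ≤ (pI G).height := by
  rw [Ideal.height_eq_inf_minimalPrimes (pI G)]
  refine le_iInf₂ fun P hP => ?_
  haveI := hP.1.1
  have hsum := height_add_coheight_pp (⟨P, hP.1.1⟩ : PrimeSpectrum (MvPolynomial (Fin (n + 1)) k))
  rw [(⟨P, hP.1.1⟩ : PrimeSpectrum (MvPolynomial (Fin (n + 1)) k)).height_eq_orderHeight]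
  by_cases hv : P = vertex k n
  · subst hv
    rw [show (⟨vertex k n, hP.1.1⟩ : PrimeSpectrum (MvPolynomial (Fin (n + 1)) k)) = vertexPoint k n from rfl] at hsum ⊢
    rw [coheight_vertexPoint, add_zero] at hsum
    rw [hsum]
    exact_mod_cast hr
  · obtain ⟨z, hz⟩ := exists_point_minimal (isHomogeneous_pI G) hP hv
    rw [← show pp z = ⟨P, hP.1.1⟩ from PrimeSpectrum.ext hz] at hsum ⊢
    rw [coheight_pp_eq] at hsum
    have h3 := h z (hz ▸ hP.1.2)
    obtain ⟨m, hm⟩ := ENat.ne_top_iff_exists.1 (ne_top_of_le_ne_top (ENat.natCast_ne_top (n + 1))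
      (le_self_add.trans_eq hsum))
    rw [← hm] at hsum ⊢
    have : m + (pdim z + 1) = n + 1 := by exact_mod_cast hsum
    exact_mod_cast (show r ≤ m by omega)

/-- The ideal of a complete intersection is prolonged by a form regular modulo it. -/
theorem mem_of_mul_mem {a : Fin (r + 1) → ℕ} (ha : ∀ j, 1 ≤ a j) (G : ∀ j, LefPen.Form n k (a j))
    (hr : r ≤ n) (h : DimLE G) (g : MvPolynomial (Fin (n + 1)) k)
    (hg : g * (G (Fin.last r)).1 ∈ pI (fun j : Fin r => G j.castSucc)) :
    g ∈ pI (fun j : Fin r => G j.castSucc) := by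
  classical
  set I := pI (fun j : Fin r => G j.castSucc) with hI
  have hIh : I.IsHomogeneous (CohB1.polyGrading n k) := isHomogeneous_pI _
  have hIV : I ≤ vertex k n := Ideal.span_le.2 (by rintro _ ⟨j, rfl⟩; exact form_mem_vertex (ha _) _)
  -- reduction to a homogeneous element
  suffices key : ∀ (e : ℕ) (g₀ : MvPolynomial (Fin (n + 1)) k), g₀ ∈ CohB1.polyGrading n k e →
      g₀ * (G (Fin.last r)).1 ∈ I → g₀ ∈ I by
    rw [← DirectSum.sum_support_decompose (CohB1.polyGrading n k) g]
    refine Ideal.sum_mem _ fun e _ => key e _ (SetLike.coe_mem _) ?_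
    rw [← DirectSum.coe_decompose_mul_add_of_right_mem (CohB1.polyGrading n k) (G (Fin.last r)).2]
    exact hIh _ hg
  intro e g₀ hg₀e hg₀
  let R := Localization.AtPrime (vertex k n)
  haveI : IsRegularLocalRing R := IsRegularRing.isRegularLocalRing_localization (vertex k n)
  haveI := LC.gorenstein_of_isRegularLocalRing (R := R)
  haveI := LC.isCohenMacaulayLocalRing_of_gorenstein (R := R)
  let φ := algebraMap (MvPolynomial (Fin (n + 1)) k) R
  let xs : List R := (List.ofFn fun j : Fin r => (G j.castSucc).1).map φ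
  let ys : List R := (List.ofFn fun j => (G j).1).map φ
  have hys : ys = xs ++ [φ (G (Fin.last r)).1] := by
    show (List.ofFn fun j => (G j).1).map φ = _
    rw [List.ofFn_succ', List.concat_eq_append, List.map_append]
    rfl
  have hymem : ∀ y ∈ ys, y ∈ IsLocalRing.maximalIdeal R := by
    intro y hy
    obtain ⟨b, hb, rfl⟩ := List.mem_map.1 hy
    obtain ⟨j, rfl⟩ := List.mem_ofFn.1 hb
    exact (IsLocalization.AtPrime.to_map_mem_maximal_iff R (vertex k n) _).2 (form_mem_vertex (ha j) _)
  have hyJ : Ideal.ofList ys = (pI G).map φ := by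
    rw [← Ideal.map_ofList]
    exact congrArg _ (congrArg Ideal.span (Set.ext fun _ => List.mem_ofFn))
  have hxJ : Ideal.ofList xs = I.map φ := by
    rw [← Ideal.map_ofList]
    exact congrArg _ (congrArg Ideal.span (Set.ext fun _ => List.mem_ofFn))
  have hreg : RingTheory.Sequence.IsWeaklyRegular R ys := by
    refine (LC.idealDepth_ofList_eq_length_iff (M := R) ys hymem).mp
      (le_antisymm (LC.idealDepth_ofList_le_length ys hymem) ?_)
    rw [LC.idealDepth_self_eq_height, hyJ, show ys.length = r + 1 by simp [ys],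
      Ideal.height_eq_inf_minimalPrimes ((pI G).map φ)]
    refine le_iInf₂ fun Q hQ => ?_
    haveI := hQ.1.1
    refine le_trans ?_ (le_of_eq (IsLocalization.height_under (vertex k n).primeCompl Q))
    exact le_trans (le_height G (by omega) h) (Ideal.height_mono (Ideal.map_le_iff_le_comap.mp hQ.1.2))
  rw [hys, RingTheory.Sequence.isWeaklyRegular_append_iff] at hreg
  have hlast := (RingTheory.Sequence.isWeaklyRegular_singleton_iff _ _).1 hreg.2
  have hg0 : (Submodule.Quotient.mk (φ g₀) : R ⧸ (Ideal.ofList xs • ⊤ : Submodule R R)) = 0 := by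
    refine hlast.right_eq_zero_of_smul ?_
    rw [← Submodule.Quotient.mk_smul, show φ (G (Fin.last r)).1 • φ g₀ = φ (g₀ * (G (Fin.last r)).1) from
        (smul_eq_mul _ _).trans ((mul_comm _ _).trans (map_mul φ _ _).symm),
      Submodule.Quotient.mk_eq_zero, Ideal.smul_eq_mul, Ideal.mul_top, hxJ]
    exact Ideal.mem_map_of_mem φ hg₀
  rw [Submodule.Quotient.mk_eq_zero, Ideal.smul_eq_mul, Ideal.mul_top, hxJ] at hg0
  obtain ⟨u, hu, hug⟩ := (IsLocalization.algebraMap_mem_map_algebraMap_iff (vertex k n).primeCompl R I g₀).mp hg0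
  let K : Ideal (MvPolynomial (Fin (n + 1)) k) := Submodule.comap (LinearMap.toSpanSingleton _ _ g₀) I
  have hK : K.IsHomogeneous (CohB1.polyGrading n k) := fun i b hb => by
    show (DirectSum.decompose (CohB1.polyGrading n k) b i : MvPolynomial (Fin (n + 1)) k) * g₀ ∈ I
    rw [← DirectSum.coe_decompose_mul_add_of_right_mem (CohB1.polyGrading n k) hg₀e]
    exact hIh _ hb
  by_contra hgI
  exact hu (le_vertex_of_isHomogeneous hK
    (fun ht => hgI (by simpa using (show (1 : MvPolynomial (Fin (n + 1)) k) * g₀ ∈ I from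
      (ht ▸ Submodule.mem_top : (1 : MvPolynomial (Fin (n + 1)) k) ∈ K)))) hug)

end Groth.Agent.CIX45
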