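import Groth.Agent.CIX45.Chart
import Groth.Agent.LefPenLib.Chart
import Groth.Agent.SerreVan45.FormDeg
import Groth.Agent.DRHyp.HypPres
import Groth.Agent.ThetaPow.ZeroIdeal
import Groth.Agent.ResSurf.PullIdeal
import Groth.Agent.Pic13Lib.Twist

/-!
# Complete intersections of projective space: the ideal sheaves and one step
-/

set_option autoImplicit false
set_option linter.style.haveILetI false
set_option backward.isDefEq.respectTransparency false
set_option backward.isDefEq.respectTransparency.types false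
set_option maxHeartbeats 1000000

universe u

open CategoryTheory CategoryTheory.Limits AlgebraicGeometry TopologicalSpace Opposite
open HomogeneousLocalization (Away)

noncomputable section

namespace Groth.Agent.CIX45

open Groth.Agent Groth.Agent.VarDim Groth.Agent.VarDim.ProjN
open Groth.Agent.H23.PicMul

variable {k : Type u} [Field k] {n r : ℕ}

local notation "𝒜" => CohB1.polyGrading n k

theorem bijective_awayToSection (i : Fin (n + 1)) :
    Function.Bijective (Proj.awayToSection 𝒜 (MvPolynomial.X i)).hom :=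
  ConcreteCategory.bijective_of_isIso (Proj.basicOpenIsoAway 𝒜 _ (LefPen.X_mem n k i) Nat.one_pos).hom

/-- A form as a map to `O(d)`. -/
def formHom {d : ℕ} (G : LefPen.Form n k d) :
    Coh.structureModule (CohB1.ProjSpace n k) ⟶ Twist.twistProjSpace n k (d : ℤ) :=
  InvX.ofSect (SerreVan45.secDeg 𝒜 G.2)

theorem isInvertible_twist (d : ℤ) : PicF.IsInvertible (Twist.twistProjSpace n k d) :=
  PnCoh.Finite.isInvertible_twist (ProjRegular.coords k n) ProjRegular.coords_mem ProjRegular.coords_cover d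

theorem zeroScheme_formHom {d : ℕ} (G : LefPen.Form n k d) :
    PicF2.zeroScheme (Twist.twistProjSpace n k (d : ℤ)) (formHom G) = LefPen.hypIdeal G := by
  refine Scheme.IdealSheafData.ext_of_iSup_eq_top (fun j => LefPenLib.chartA j)
    (top_le_iff.1 (ProjRegular.coords_cover.ge.trans (iSup_le fun j => le_iSup_of_le j.down le_rfl))) fun j => ?_
  have he := SerreVan45.isFrame_powFrame 𝒜 (LefPen.X_mem n k j) d
  rw [LefPenLib.hypIdeal_chart]
  refine (DRHyp.Hyp.ideal_eq (formHom G) (isInvertible_twist _) (LefPenLib.isAffineOpen_chart j) he).trans ?_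
  rw [DRHyp.Hyp.coef_unique (formHom G) he (c := LefPen.dehom G j) ?_]
  rw [← ZeroSchX.res_sv (formHom G) (le_top : LefPen.chart n k j ≤ ⊤)]
  exact (congrArg (AModX.res _ _) (InvX.one_ofSect _)).trans (SerreVan45.secDeg_eq_smul 𝒜 G.2 (LefPen.X_mem n k j))

theorem mem_support_hypIdeal {d : ℕ} (hd : 0 < d) (G : LefPen.Form n k d) (x : CohB1.ProjSpace n k) :
    x ∈ (LefPen.hypIdeal G).support ↔ G.1 ∈ (pp x).asIdeal := by
  obtain ⟨j, hj⟩ := Opens.mem_iSup.1
    ((ProjRegular.coords_cover (k := k) (n := n)).ge (trivial : x ∈ (⊤ : (CohB1.ProjSpace n k).Opens)))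
  rw [Scheme.IdealSheafData.mem_support_iff_of_mem (U := LefPenLib.chartA j.down) hj,
    LefPenLib.hypIdeal_chart, Scheme.zeroLocus_span, Scheme.zeroLocus_singleton]
  show ¬ x ∈ (CohB1.ProjSpace n k).basicOpen (LefPen.dehom G j.down) ↔ _
  rw [show (CohB1.ProjSpace n k).basicOpen (LefPen.dehom G j.down) =
      Proj.basicOpen 𝒜 (MvPolynomial.X j.down) ⊓ Proj.basicOpen 𝒜 G.1 from
    SerreVan45.basicOpen_away 𝒜 hd G.2 (LefPen.X_mem n k j.down)]
  constructor
  · intro h
    by_contra hG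
    exact h ⟨hj, hG⟩
  · exact fun hG h => h.2 hG

theorem mem_support_ciIdeal {a : Fin r → ℕ} (ha : ∀ j, 1 ≤ a j) (G : ∀ j, LefPen.Form n k (a j))
    (x : CohB1.ProjSpace n k) : x ∈ (LefPen.ciIdeal G).support ↔ pI G ≤ (pp x).asIdeal := by
  rw [LefPen.ciIdeal, Scheme.IdealSheafData.support_iSup, ← SetLike.mem_coe, Closeds.coe_iInf, Set.mem_iInter,
    pI, Ideal.span_le, Set.range_subset_iff]
  exact forall_congr' fun j => mem_support_hypIdeal (ha j) (G j) x

theorem dimLE_of_topologicalKrullDim {a : Fin r → ℕ} (ha : ∀ j, 1 ≤ a j) (G : ∀ j, LefPen.Form n k (a j))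
    (hr : r ≤ n) (hdim : topologicalKrullDim ↥(LefPen.ciIdeal G).subscheme = ((n - r : ℕ) : WithBot ℕ∞)) :
    DimLE G := by
  intro x hx
  have hZ : IsClosed (X := ProjectiveSpectrum 𝒜) ((LefPen.ciIdeal G).support : Set ↥(CohB1.ProjSpace n k)) :=
    (LefPen.ciIdeal G).support.isClosed'
  have h := le_topologicalKrullDim hZ ((mem_support_ciIdeal ha G x).2 hx)
  have e : topologicalKrullDim ↥(LefPen.ciIdeal G).subscheme =
      topologicalKrullDim ↥((LefPen.ciIdeal G).support : Set ↥(CohB1.ProjSpace n k)) := by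
    refine (IsHomeomorph.topologicalKrullDim_eq _
      ((LefPen.ciIdeal G).subschemeι.isClosedEmbedding.isEmbedding.toHomeomorph.trans
        (Homeomorph.setCongr (LefPen.ciIdeal G).range_subschemeι)).isHomeomorph)
  rw [← e, hdim] at h
  have : pdim x ≤ n - r := by exact_mod_cast h
  omega

theorem dehom_mem_of_mul_mem_section (j : Fin (n + 1)) {a : Fin (r + 1) → ℕ} (ha : ∀ l, 1 ≤ a l)
    (G : ∀ l, LefPen.Form n k (a l)) (hr : r ≤ n) (h : DimLE G)
    (z : Γ(CohB1.ProjSpace n k, LefPen.chart n k j))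
    (hz : z * LefPen.dehom (G (Fin.last r)) j ∈ Ideal.span (Set.range fun l : Fin r => LefPen.dehom (G l.castSucc) j)) :
    z ∈ Ideal.span (Set.range fun l : Fin r => LefPen.dehom (G l.castSucc) j) := by
  let ψ : Away 𝒜 (MvPolynomial.X j) ≃+* Γ(CohB1.ProjSpace n k, LefPen.chart n k j) :=
    RingEquiv.ofBijective _ (bijective_awayToSection j)
  have hψ : ∀ {d : ℕ} (F : LefPen.Form n k d), ψ (ZetaLib.dehom n k j F.1) = LefPen.dehom F j :=
    fun F => (LefPenLib.dehom_eq F j).symm
  have hspan : Ideal.span (Set.range fun l : Fin r => LefPen.dehom (G l.castSucc) j) =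
      (Ideal.span (Set.range fun l : Fin r => ZetaLib.dehom n k j (G l.castSucc).1)).map ψ := by
    rw [Ideal.map_span, ← Set.range_comp]
    exact congrArg _ (congrArg Set.range (funext fun l => (hψ _).symm))
  obtain ⟨w, rfl⟩ := ψ.surjective z
  rw [← hψ, ← map_mul, hspan, Ideal.apply_mem_of_equiv_iff] at hz
  rw [hspan, Ideal.apply_mem_of_equiv_iff]
  exact dehom_mem_of_mul_mem j ha G hr h w hz

theorem ideal_ciIdeal_chart {a : Fin r → ℕ} (G : ∀ j, LefPen.Form n k (a j)) (j : Fin (n + 1)) :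
    (LefPen.ciIdeal G).ideal (LefPenLib.chartA j) = Ideal.span (Set.range fun l => LefPen.dehom (G l) j) := by
  rw [LefPen.ciIdeal, Scheme.IdealSheafData.ideal_iSup, iSup_apply, Ideal.span_range_eq_iSup]
  exact iSup_congr fun l => LefPenLib.hypIdeal_chart (G l) j

/-- The inverse image of a hypersurface, on a chart. -/
theorem ideal_comap_hypIdeal {X : Scheme.{u}} (ι : X ⟶ CohB1.ProjSpace n k) [IsClosedImmersion ι] {d : ℕ}
    (G : LefPen.Form n k d) (j : Fin (n + 1)) :
    ((LefPen.hypIdeal G).comap ι).ideal (LefPenLib.chartXA ι j) =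
      Ideal.span {(ι.app (LefPen.chart n k j)).hom (LefPen.dehom G j)} := by
  have h := LefPenLib.secIdeal_chart ι ({G} : Set (LefPen.Form n k d)) j
  rw [LefPen.secIdeal, iSup_singleton, Set.image_singleton, ← LefPenLib.app_dehom] at h
  exact h

theorem isEffCartier_step {a : Fin (r + 1) → ℕ} (ha : ∀ l, 1 ≤ a l) (G : ∀ l, LefPen.Form n k (a l))
    (hr : r ≤ n) (h : DimLE G) :
    BlowUp.IsEffCartierIdeal ((LefPen.hypIdeal (G (Fin.last r))).comap
      (LefPen.ciIdeal (fun l : Fin r => G l.castSucc)).subschemeι) := by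
  intro y
  set I := LefPen.ciIdeal (fun l : Fin r => G l.castSucc) with hI
  obtain ⟨j, hj⟩ := Opens.mem_iSup.1
    ((LefPenLib.iSup_chartX I.subschemeι).ge (trivial : y ∈ (⊤ : I.subscheme.Opens)))
  refine ⟨LefPenLib.chartXA I.subschemeι j, hj,
    (I.subschemeι.app (LefPen.chart n k j)).hom (LefPen.dehom (G (Fin.last r)) j), ?_,
    ideal_comap_hypIdeal I.subschemeι (G (Fin.last r)) j⟩
  rw [mem_nonZeroDivisors_iff_right]
  intro w hw
  obtain ⟨z, rfl⟩ := I.subschemeι.app_surjective _ (LefPenLib.isAffineOpen_chart j) w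
  have hker : RingHom.ker (I.subschemeι.app (LefPen.chart n k j)).hom =
      Ideal.span (Set.range fun l : Fin r => LefPen.dehom (G l.castSucc) j) :=
    (I.ker_subschemeι_app (LefPenLib.chartA j)).trans (ideal_ciIdeal_chart _ j)
  rw [← map_mul, ← RingHom.mem_ker, hker] at hw
  have := dehom_mem_of_mul_mem_section j ha G hr h z hw
  rwa [← hker, RingHom.mem_ker] at this

theorem cl_twist_add (a b : ℤ) :
    PicF.cl (Twist.twistProjSpace n k a) * PicF.cl (Twist.twistProjSpace n k b) =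
      PicF.cl (Twist.twistProjSpace n k (a + b)) := by
  rw [← cl_tensor]
  exact cl_eq_iff.2 (PnCoh.Finite.twist_tensor_iso (ProjRegular.coords k n) ProjRegular.coords_mem
    ProjRegular.coords_cover a b)

theorem cl_twist_zero : PicF.cl (Twist.twistProjSpace n k 0) = 1 := by
  obtain ⟨e⟩ := RegEpi.unitIso (k := k) (n := n)
  exact cl_eq_iff.2 ⟨e.symm⟩

theorem isEffCartier_hypIdeal {d : ℕ} (G : LefPen.Form n k d) (hG : G ≠ 0) :
    BlowUp.IsEffCartierIdeal (LefPen.hypIdeal G) := by
  intro x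
  obtain ⟨j, hj⟩ := Opens.mem_iSup.1
    ((ProjRegular.coords_cover (k := k) (n := n)).ge (trivial : x ∈ (⊤ : (CohB1.ProjSpace n k).Opens)))
  refine ⟨LefPenLib.chartA j.down, hj, LefPen.dehom G j.down, ?_, LefPenLib.hypIdeal_chart G j.down⟩
  rw [mem_nonZeroDivisors_iff_right]
  intro z hz
  let ψ : Away 𝒜 (MvPolynomial.X j.down) ≃+* Γ(CohB1.ProjSpace n k, LefPen.chart n k j.down) :=
    RingEquiv.ofBijective _ (bijective_awayToSection j.down)
  obtain ⟨w, rfl⟩ := ψ.surjective z
  rw [LefPenLib.dehom_eq] at hz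
  have hz' : w * ZetaLib.dehom n k j.down G.1 = 0 := ψ.injective (by rw [map_mul, map_zero]; exact hz)
  obtain ⟨m, A, hA, rfl⟩ := exists_form_dehom j.down w
  rw [← map_mul] at hz'
  rcases mul_eq_zero.1 (eq_zero_of_dehom_eq_zero j.down (hA.mul G.2) hz') with h | h
  · rw [h, map_zero, map_zero]
  · exact absurd (Subtype.ext h) hG

/-- The ideal of a hypersurface of degree `d` is `O(-d)`. -/
theorem nonempty_idealMod_hypIdeal {d : ℕ} (G : LefPen.Form n k d) (hG : G ≠ 0) :
    Nonempty (ClSub.idealMod (LefPen.hypIdeal G) ≅ Twist.twistProjSpace n k (-(d : ℤ))) := by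
  have hI := isEffCartier_hypIdeal G hG
  rw [← zeroScheme_formHom] at hI ⊢
  obtain ⟨e⟩ := ThetaPow.nonempty_idealMod_zeroScheme' (isInvertible_twist (d : ℤ)) (formHom G) hI
  refine cl_eq_iff.1 ?_
  have h1 : PicF.cl (ClSub.idealMod (PicF2.zeroScheme _ (formHom G))) * PicF.cl (Twist.twistProjSpace n k (d : ℤ)) = 1 := by
    rw [← cl_tensor, H23.PicMul.one_def]; exact cl_eq_iff.2 ⟨e⟩
  have h2 : PicF.cl (Twist.twistProjSpace n k (d : ℤ)) * PicF.cl (Twist.twistProjSpace n k (-(d : ℤ))) = 1 := by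
    rw [cl_twist_add, add_neg_cancel, cl_twist_zero]
  exact left_inv_eq_right_inv h1 h2

/-- One step of a complete intersection: the ideal is the twist `O(-a)`. -/
theorem nonempty_idealMod_step {a : Fin (r + 1) → ℕ} (ha : ∀ l, 1 ≤ a l) (G : ∀ l, LefPen.Form n k (a l))
    (hr : r ≤ n) (h : DimLE G) :
    Nonempty (ClSub.idealMod ((LefPen.hypIdeal (G (Fin.last r))).comap
        (LefPen.ciIdeal (fun l : Fin r => G l.castSucc)).subschemeι) ≅
      (Scheme.Modules.pullback (LefPen.ciIdeal (fun l : Fin r => G l.castSucc)).subschemeι).obj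
        (Twist.twistProjSpace n k (-(a (Fin.last r) : ℤ)))) := by
  have hG : G (Fin.last r) ≠ 0 := fun h0 => by
    have h1 := mem_of_mul_mem ha G hr h 1 (by rw [h0]; simp)
    have h2 : pI (fun l : Fin r => G l.castSucc) ≤ vertex k n :=
      Ideal.span_le.2 (by rintro _ ⟨l, rfl⟩; exact form_mem_vertex (ha _) _)
    exact vertex_isMaximal.ne_top ((Ideal.eq_top_iff_one _).2 (h2 h1))
  obtain ⟨e⟩ := nonempty_idealMod_hypIdeal (G (Fin.last r)) hG
  obtain ⟨p⟩ := ResSurf.PullIdeal.nonempty_pullback_idealMod _ _ (isEffCartier_hypIdeal _ hG)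
    (isEffCartier_step ha G hr h)
  exact ⟨p.symm ≪≫ (Scheme.Modules.pullback _).mapIso e⟩

end Groth.Agent.CIX45
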